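import Mathlib

universe u

namespace Groth.Agent.PresDescLib

open TensorProduct

/-- Base change of a finitely presented cokernel is the cokernel of the base-changed matrix. -/
theorem nonempty_quotient_equiv_baseChange {R A : Type u} [CommRing R] [CommRing A] [Algebra R A]
    {n : ℕ} {κ : Type u} (ρ : κ → Fin n → R) :
    Nonempty (((Fin n → A) ⧸ Submodule.span A (Set.range fun k t => algebraMap R A (ρ k t))) ≃ₗ[A]
      A ⊗[R] ((Fin n → R) ⧸ Submodule.span R (Set.range ρ))) := by
  classical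
  set N := Submodule.span R (Set.range ρ) with hN
  set K := Submodule.span A (Set.range fun k t => algebraMap R A (ρ k t)) with hK
  -- forward
  let b : (Fin n → A) →ₗ[A] A ⊗[R] ((Fin n → R) ⧸ N) :=
    (Pi.basisFun A (Fin n)).constr A fun t => (1 : A) ⊗ₜ[R] N.mkQ (Pi.single t 1)
  have hb : ∀ t, b (Pi.single t 1) = (1 : A) ⊗ₜ[R] N.mkQ (Pi.single t 1) := by
    intro t
    rw [← Pi.basisFun_apply, Module.Basis.constr_basis]
  have hbv : ∀ v : Fin n → R, b (fun t => algebraMap R A (v t)) = (1 : A) ⊗ₜ[R] N.mkQ v := by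
    intro v
    have h1 : (fun t => algebraMap R A (v t)) = ∑ t, algebraMap R A (v t) • Pi.single t (1 : A) := by
      funext s; simp [Finset.sum_apply, Pi.single_apply, Algebra.algebraMap_eq_smul_one]
    rw [h1, map_sum]
    conv_rhs => rw [show v = ∑ t, v t • Pi.single t (1 : R) by
      funext s; simp [Finset.sum_apply, Pi.single_apply]]
    rw [map_sum, TensorProduct.tmul_sum]
    refine Finset.sum_congr rfl fun t _ => ?_
    rw [map_smul, map_smul, hb, algebraMap_smul, TensorProduct.tmul_smul]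
  have hKb : K ≤ LinearMap.ker b := by
    rw [hK, Submodule.span_le]
    rintro _ ⟨k, rfl⟩
    show b _ = 0
    rw [hbv]
    have : N.mkQ (ρ k) = 0 :=
      (Submodule.Quotient.mk_eq_zero N).2 (Submodule.subset_span ⟨k, rfl⟩)
    rw [this, TensorProduct.tmul_zero]
  -- backward
  let g0 : (Fin n → R) →ₗ[R] (Fin n → A) ⧸ K :=
    (K.mkQ.restrictScalars R) ∘ₗ LinearMap.pi fun t => (Algebra.linearMap R A) ∘ₗ LinearMap.proj t
  have hNg : N ≤ LinearMap.ker g0 := by
    rw [hN, Submodule.span_le]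
    rintro _ ⟨k, rfl⟩
    show g0 (ρ k) = 0
    exact (Submodule.Quotient.mk_eq_zero K).2 (Submodule.subset_span ⟨k, rfl⟩)
  let g : ((Fin n → R) ⧸ N) →ₗ[R] (Fin n → A) ⧸ K := N.liftQ g0 hNg
  let Ψ : A ⊗[R] ((Fin n → R) ⧸ N) →ₗ[A] (Fin n → A) ⧸ K := LinearMap.liftBaseChange A g
  refine ⟨LinearEquiv.ofLinear (K.liftQ b hKb) Ψ ?_ ?_⟩
  · apply LinearMap.ext
    intro z
    induction z using TensorProduct.induction_on with
    | zero => simp
    | add x y hx hy => simp [map_add, hx, hy] at *; try rw [hx, hy]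
    | tmul a y =>
      obtain ⟨v, rfl⟩ := Submodule.mkQ_surjective N y
      show K.liftQ b hKb (Ψ (a ⊗ₜ N.mkQ v)) = a ⊗ₜ N.mkQ v
      have h1 : Ψ (a ⊗ₜ N.mkQ v) = a • K.mkQ (fun t => algebraMap R A (v t)) := by
        rw [LinearMap.liftBaseChange_tmul]; rfl
      rw [h1, map_smul, Submodule.mkQ_apply, Submodule.liftQ_apply, hbv, TensorProduct.smul_tmul',
        smul_eq_mul, mul_one]
  · apply Submodule.linearMap_qext
    apply (Pi.basisFun A (Fin n)).ext
    intro t
    simp only [LinearMap.comp_apply, Submodule.mkQ_apply, Submodule.liftQ_apply, Pi.basisFun_apply,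
      LinearMap.id_apply, hb]
    rw [LinearMap.liftBaseChange_tmul, one_smul]
    show g0 (Pi.single t 1) = _
    show K.mkQ _ = K.mkQ _
    congr 1
    funext s
    simp [Pi.single_apply]

/-- A finitely presented module over a directed colimit of rings descends to some stage. -/
theorem exists_descent (ι : Type u) [Preorder ι] [Nonempty ι] [IsDirectedOrder ι]
    (G : ι → Type u) [∀ i, CommRing (G i)] (f : ∀ i j, i ≤ j → G i →+* G j)
    (M : Type u) [AddCommGroup M]
    [Module (Ring.DirectLimit G (fun i j h ↦ f i j h)) M]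
    [Module.FinitePresentation (Ring.DirectLimit G (fun i j h ↦ f i j h)) M] :
    ∃ (i : ι) (Mi : Type u) (_ : AddCommGroup Mi) (_ : Module (G i) Mi), Module.FinitePresentation (G i) Mi ∧
      letI : Algebra (G i) (Ring.DirectLimit G (fun i j h ↦ f i j h)) :=
        (Ring.DirectLimit.of G (fun i j h ↦ f i j h) i).toAlgebra
      Nonempty (M ≃ₗ[Ring.DirectLimit G (fun i j h ↦ f i j h)] (Ring.DirectLimit G (fun i j h ↦ f i j h)) ⊗[G i] Mi) := by
  classical
  obtain ⟨n, K, e, hK⟩ := Module.FinitePresentation.exists_fin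
    (Ring.DirectLimit G (fun i j h ↦ f i j h)) M
  obtain ⟨s, hs⟩ := hK
  have hlift : ∀ p : s × Fin n, ∃ (i : ι) (y : G i),
      Ring.DirectLimit.of G (fun i j h ↦ f i j h) i y = p.1.1 p.2 :=
    fun p => Ring.DirectLimit.exists_of _
  choose ip yp hyp using hlift
  obtain ⟨i, hi⟩ := (Finset.univ.image ip).exists_le
  have hip : ∀ p, ip p ≤ i := fun p => hi _ (Finset.mem_image_of_mem ip (Finset.mem_univ _))
  letI : Algebra (G i) (Ring.DirectLimit G (fun i j h ↦ f i j h)) :=
    (Ring.DirectLimit.of G (fun i j h ↦ f i j h) i).toAlgebra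
  let ρ : s → Fin n → G i := fun k t => f _ i (hip (k, t)) (yp (k, t))
  have hρ : (fun k t => algebraMap (G i) (Ring.DirectLimit G (fun i j h ↦ f i j h)) (ρ k t))
      = fun k : s => k.1 := by
    funext k t
    show Ring.DirectLimit.of G (fun i j h ↦ f i j h) i (f _ i (hip (k, t)) (yp (k, t))) = _
    rw [Ring.DirectLimit.of_f]
    exact hyp (k, t)
  refine ⟨i, (Fin n → G i) ⧸ Submodule.span (G i) (Set.range ρ), inferInstance, inferInstance,
    Module.finitePresentation_of_surjective (Submodule.mkQ _) (Submodule.mkQ_surjective _)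
      (by rw [Submodule.ker_mkQ]; exact Submodule.fg_span (Set.finite_range ρ)), ?_⟩
  obtain ⟨e2⟩ := nonempty_quotient_equiv_baseChange
    (A := Ring.DirectLimit G (fun i j h ↦ f i j h)) ρ
  refine ⟨e.trans ((Submodule.quotEquivOfEq _ _ ?_).trans e2)⟩
  rw [hρ, ← hs, Subtype.range_coe_subtype]
  rfl

end Groth.Agent.PresDescLib
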